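import Mathlib
import Groth.Prelude.Def_FrobAlg

set_option linter.unusedSectionVars false
set_option linter.unusedVariables false
set_option linter.unusedSimpArgs false
set_option autoImplicit false
set_option linter.style.haveILetI false
set_option maxHeartbeats 400000

/-!
# The relative Frobenius of an adic completion of an `F`-finite noetherian ring (helper6)
-/

universe u

open TensorProduct

namespace Groth.Agent.Lib.Helper6.FrobCompl

section

variable (p : ℕ) [hp : Fact p.Prime] (A : Type u) [CommRing A] [CharP A p] (I : Ideal A)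

local notation "M" => FrobAlg.Twist p A

theorem twist_smul_def (a : A) (m : M) :
    a • m = FrobAlg.toTwist p A (a ^ p) * m := by
  rw [Algebra.smul_def, FrobAlg.algebraMap_twist]

/-- the identity `M → A`, Frobenius-semilinear, followed by the quotient map -/
noncomputable def g (n : ℕ) :
    M →ₛₗ[frobenius A p] (A ⧸ (I ^ n • ⊤ : Submodule A A)) :=
  { toFun := fun m => Submodule.Quotient.mk ((FrobAlg.toTwist p A).symm m)
    map_add' := fun x y => by
      rw [map_add, Submodule.Quotient.mk_add]
    map_smul' := fun a m => by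
      rw [twist_smul_def, map_mul, RingEquiv.symm_apply_apply, frobenius_def,
        ← smul_eq_mul, Submodule.Quotient.mk_smul] }

theorem g_apply (n : ℕ) (m : M) :
    g p A I n m = Submodule.Quotient.mk ((FrobAlg.toTwist p A).symm m) := rfl

theorem le_ker_g (n : ℕ) : (I ^ n • ⊤ : Submodule A M) ≤ LinearMap.ker (g p A I n) := by
  rw [Submodule.smul_le]
  intro a ha m _
  rw [LinearMap.mem_ker, LinearMap.map_smulₛₗ, g_apply, frobenius_def,
    ← Submodule.Quotient.mk_smul, Submodule.Quotient.mk_eq_zero]
  refine Submodule.smul_mem_smul ?_ Submodule.mem_top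
  exact Ideal.pow_mem_of_mem _ ha p hp.out.pos

/-- the induced maps on quotients -/
noncomputable def φ (n : ℕ) :
    (M ⧸ (I ^ n • ⊤ : Submodule A M)) →ₛₗ[frobenius A p] (A ⧸ (I ^ n • ⊤ : Submodule A A)) :=
  (I ^ n • ⊤ : Submodule A M).liftQ (g p A I n) (le_ker_g p A I n)

theorem φ_mk (n : ℕ) (m : M) :
    φ p A I n (Submodule.Quotient.mk m) = Submodule.Quotient.mk ((FrobAlg.toTwist p A).symm m) :=
  rfl

theorem φ_transition {m n : ℕ} (hmn : m ≤ n) (x : M ⧸ (I ^ n • ⊤ : Submodule A M)) :
    AdicCompletion.transitionMap I A hmn (φ p A I n x)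
      = φ p A I m (AdicCompletion.transitionMap I M hmn x) := by
  obtain ⟨a, rfl⟩ := Submodule.Quotient.mk_surjective _ x
  rfl

/-- the comparison map between the two completions -/
noncomputable def ψ : AdicCompletion I M →+ AdicCompletion I A :=
  { toFun := fun x => ⟨fun n => φ p A I n (x.val n), fun {m n} hmn => by
      rw [φ_transition, x.property hmn]⟩
    map_zero' := by
      apply AdicCompletion.ext
      intro n
      change φ p A I n ((0 : AdicCompletion I M).val n) = (0 : AdicCompletion I A).val n
      rw [AdicCompletion.val_zero_apply, AdicCompletion.val_zero_apply, map_zero]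
    map_add' := fun x y => by
      apply AdicCompletion.ext
      intro n
      change φ p A I n ((x + y).val n) = _
      rw [AdicCompletion.val_add_apply, map_add]
      rfl }

theorem ψ_val (x : AdicCompletion I M) (n : ℕ) : (ψ p A I x).val n = φ p A I n (x.val n) := rfl

theorem ψ_mk (f : AdicCompletion.AdicCauchySequence I M) (n : ℕ) :
    (ψ p A I (AdicCompletion.mk I M f)).val n
      = Submodule.Quotient.mk ((FrobAlg.toTwist p A).symm (f n)) := rfl

theorem exists_pow_le (hI : I.FG) (n : ℕ) :
    ∃ N : ℕ, n ≤ N ∧ ∀ a ∈ I ^ N, FrobAlg.toTwist p A a ∈ (I ^ n • ⊤ : Submodule A M) := by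
  have hle : Ideal.map (FrobAlg.toTwist p A : A →+* M) I
      ≤ (Ideal.map (algebraMap A M) (I ^ n)).radical := by
    rw [Ideal.map_le_iff_le_comap]
    intro a ha
    rw [Ideal.mem_comap]
    refine ⟨p * n, ?_⟩
    have h1 : (FrobAlg.toTwist p A : A →+* M) a ^ (p * n) = algebraMap A M (a ^ n) := by
      rw [FrobAlg.algebraMap_twist, ← map_pow, pow_mul, ← pow_mul, ← pow_mul, mul_comm]
      rfl
    rw [h1]
    exact Ideal.mem_map_of_mem _ (Ideal.pow_mem_pow ha n)
  obtain ⟨k, hk⟩ := Ideal.exists_pow_le_of_le_radical_of_fg hle (hI.map _)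
  refine ⟨max k n, le_max_right _ _, fun a ha => ?_⟩
  have ha' : a ∈ I ^ k := Ideal.pow_le_pow_right (le_max_left k n) ha
  have h2 : (FrobAlg.toTwist p A : A →+* M) a ∈ Ideal.map (algebraMap A M) (I ^ n) := by
    apply hk
    rw [← Ideal.map_pow]
    exact Ideal.mem_map_of_mem _ ha'
  rw [Ideal.smul_top_eq_map]
  exact h2

theorem mem_of_mem_smul_top (n : ℕ) (m : M) (hm : m ∈ (I ^ n • ⊤ : Submodule A M)) :
    (FrobAlg.toTwist p A).symm m ∈ I ^ n := by
  have h := le_ker_g p A I n hm
  rw [LinearMap.mem_ker, g_apply, Submodule.Quotient.mk_eq_zero] at h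
  rwa [Ideal.smul_top_eq_map, Algebra.algebraMap_self, Ideal.map_id] at h

theorem ψ_injective (hI : I.FG) : Function.Injective (ψ p A I) := by
  rw [injective_iff_map_eq_zero]
  intro x hx
  induction x using AdicCompletion.induction_on with
  | h f =>
    apply AdicCompletion.ext
    intro n
    obtain ⟨N, hnN, hN⟩ := exists_pow_le p A I hI n
    -- the `N`-th term lies in `I ^ N`
    have h1 : (FrobAlg.toTwist p A).symm (f N) ∈ I ^ N := by
      have h0 := congrArg (fun y => y.val N) hx
      change (ψ p A I (AdicCompletion.mk I M f)).val N = (0 : AdicCompletion I A).val N at h0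
      rw [ψ_mk, AdicCompletion.val_zero_apply, Submodule.Quotient.mk_eq_zero] at h0
      rwa [Ideal.smul_top_eq_map, Algebra.algebraMap_self, Ideal.map_id] at h0
    have h2 : f N ∈ (I ^ n • ⊤ : Submodule A M) := by
      have := hN _ h1
      rwa [RingEquiv.apply_symm_apply] at this
    change Submodule.Quotient.mk (f n) = (0 : AdicCompletion I M).val n
    rw [AdicCompletion.val_zero_apply, ← AdicCompletion.AdicCauchySequence.mk_eq_mk hnN f,
      Submodule.Quotient.mk_eq_zero]
    exact h2

theorem ψ_surjective (hI : I.FG) : Function.Surjective (ψ p A I) := by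
  intro y
  induction y using AdicCompletion.induction_on with
  | h g₀ =>
    choose N hnN hN using exists_pow_le p A I hI
    have hcauchy : AdicCompletion.IsAdicCauchy I M (fun n => FrobAlg.toTwist p A (g₀ (N n))) := by
      intro m n hmn
      rw [SModEq.sub_mem]
      -- difference lies in `I ^ (min (N m) (N n))`
      rcases le_total (N m) (N n) with h | h
      · have h1 : g₀ (N m) - g₀ (N n) ∈ I ^ N m := by
          have := g₀.property h
          rw [SModEq.sub_mem, Ideal.smul_top_eq_map, Algebra.algebraMap_self, Ideal.map_id] at this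
          exact this
        have := hN m _ h1
        rwa [map_sub] at this
      · have h1 : g₀ (N m) - g₀ (N n) ∈ I ^ N n := by
          have := g₀.property h
          rw [SModEq.sub_mem, Ideal.smul_top_eq_map, Algebra.algebraMap_self, Ideal.map_id] at this
          have h' := Ideal.neg_mem_iff _ |>.mpr this
          rwa [neg_sub] at h'
        have h2 := hN n _ h1
        rw [map_sub] at h2
        exact Submodule.smul_mono_left (Ideal.pow_le_pow_right hmn) h2
    refine ⟨AdicCompletion.mk I M ⟨_, hcauchy⟩, ?_⟩
    apply AdicCompletion.ext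
    intro n
    change Submodule.Quotient.mk ((FrobAlg.toTwist p A).symm (FrobAlg.toTwist p A (g₀ (N n))))
      = Submodule.Quotient.mk (g₀ n)
    rw [RingEquiv.symm_apply_apply]
    exact AdicCompletion.AdicCauchySequence.mk_eq_mk (hnN n) g₀

variable [CharP (AdicCompletion I A) p]

/-- evaluation as a ring hom -/
noncomputable def evR (n : ℕ) : AdicCompletion I A →+* (A ⧸ (I ^ n • ⊤ : Ideal A)) :=
  { toFun := fun x => x.val n
    map_one' := AdicCompletion.val_one I n
    map_mul' := AdicCompletion.val_mul I n
    map_zero' := rfl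
    map_add' := fun x y => rfl }

theorem evR_apply (n : ℕ) (x : AdicCompletion I A) : evR A I n x = x.val n := rfl

theorem relFrob_eq (z : FrobAlg.BaseChange p A (AdicCompletion I A)) :
    FrobAlg.relFrob p A (AdicCompletion I A) z = ψ p A I (AdicCompletion.ofTensorProduct I M z) := by
  induction z using TensorProduct.induction_on with
  | zero => rw [map_zero, map_zero, map_zero]
  | add x y hx hy => rw [map_add, map_add, map_add, hx, hy]
  | tmul b a =>
    have h1 : FrobAlg.relFrob p A (AdicCompletion I A) (b ⊗ₜ[A] a)
        = b ^ p * algebraMap A (AdicCompletion I A) ((FrobAlg.toTwist p A).symm a) := rfl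
    rw [h1, AdicCompletion.ofTensorProduct_tmul]
    apply AdicCompletion.ext
    intro n
    rw [ψ_val, AdicCompletion.smul_eval, ← evR_apply A I n, map_mul, map_pow, evR_apply,
      evR_apply]
    obtain ⟨β, hβ⟩ := Submodule.Quotient.mk_surjective _ (b.val n)
    rw [← hβ, AdicCompletion.of_apply]
    have h2 : (algebraMap A (AdicCompletion I A) ((FrobAlg.toTwist p A).symm a)).val n
        = Submodule.Quotient.mk ((FrobAlg.toTwist p A).symm a) := rfl
    rw [h2]
    have h3 : (Submodule.Quotient.mk β : A ⧸ (I ^ n • ⊤ : Ideal A))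
        • (Submodule.mkQ (I ^ n • ⊤ : Submodule A M) a)
        = Submodule.Quotient.mk (β • a) := rfl
    rw [h3, φ_mk, twist_smul_def, map_mul, RingEquiv.symm_apply_apply]
    rfl

theorem relFrob_bijective [IsNoetherianRing A] (hF : (frobenius A p).Finite) :
    Function.Bijective (FrobAlg.relFrob p A (AdicCompletion I A)) := by
  haveI : Module.Finite A M := hF
  have h1 := AdicCompletion.ofTensorProduct_bijective_of_finite_of_isNoetherian I M
  have hI : I.FG := IsNoetherian.noetherian I
  have h2 : Function.Bijective (ψ p A I) := ⟨ψ_injective p A I hI, ψ_surjective p A I hI⟩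
  have h3 : (FrobAlg.relFrob p A (AdicCompletion I A) : _ → _)
      = (ψ p A I) ∘ (AdicCompletion.ofTensorProduct I M) := by
    funext z
    exact relFrob_eq p A I z
  rw [h3]
  exact h2.comp h1

end

end Groth.Agent.Lib.Helper6.FrobCompl
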